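import Cfsg.Agent.Lib.ConwayThree.Model
import Cfsg.Agent.Lib.ConwayFive.Exists
import Cfsg.Agent.Lib.Extraspecial.Pair

/-!
An element of order three of `2^(1+8) . Ω^+(8,2)` with fixed points `2^(1+6)_-`, and a mover centralising it.
-/

set_option autoImplicit false
set_option linter.style.haveILetI false

namespace CfsgLib.ConwayThree

open CfsgLib.Extraspecial
open CfsgLib.ConwayFive (e8 dec8 exists_iso8 pol sq_add exists_step dec8_one conj_eq_self)
open CfsgLib.SuzType (em)

variable {G : Type*} [Group G] [Finite G]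

omit [Finite G] in
/-- A set invariant under a group of order three and of order prime to three has a fixed point. -/
theorem exists_fixed {B : Subgroup G} (hB : Nat.card B = 3) (S : Set G)
    (hS : ∀ b ∈ B, ∀ x ∈ S, b * x * b⁻¹ ∈ S) (h3 : ¬ 3 ∣ Nat.card S) :
    ∃ x ∈ S, ∀ b ∈ B, b * x = x * b := by
  haveI : Fact (Nat.Prime 3) := ⟨Nat.prime_three⟩
  letI act : MulAction B S :=
    { smul := fun b x => ⟨b * x * (b : G)⁻¹, hS b b.2 x x.2⟩
      one_smul := fun x => Subtype.ext (by show (1 : G) * x * (1 : G)⁻¹ = x; group)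
      mul_smul := fun a b x => Subtype.ext (by
        show ((a : G) * b) * x * ((a : G) * b)⁻¹ = (a : G) * ((b : G) * x * (b : G)⁻¹) * (a : G)⁻¹
        group) }
  obtain ⟨x, hx⟩ := (IsPGroup.of_card (p := 3) (n := 1) (G := B) (by rw [hB, pow_one])).nonempty_fixed_point_of_prime_not_dvd_card S h3
  exact ⟨x.1, x.2, fun b hb => mul_inv_eq_iff_eq_mul.mp (congrArg Subtype.val (hx ⟨b, hb⟩))⟩

theorem moved : cocycle e8 (dec8 1) (dec8 2) ≠ cocycle e8 (dec8 2) (dec8 1) ∧ p2 (dec8 2) = 0 ∧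
    p2 (dec8 1) = 0 := by decide +kernel

/-- The conjugate extraspecial group. -/
abbrev Qc (Q : Subgroup G) (g : G) : Subgroup G := Q.map (MulAut.conj g).toMonoidHom

/-- The centraliser of `z` and `B`. -/
abbrev L (z : G) (B : Subgroup G) : Subgroup G :=
  Subgroup.centralizer ({z} : Set G) ⊓ Subgroup.centralizer (B : Set G)

/-- What is needed about the subgroup of order three. -/
structure Data (z : G) (Q B : Subgroup G) (π : ↥(L z B) →* isoGrp em) (g : G) : Prop where
  st : Setting Q z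
  cardB : Nat.card B = 3
  Bz : B ≤ Subgroup.centralizer ({z} : Set G)
  ex1 : Cfsg.IsExtraspecial 2 ↥(Q ⊓ Subgroup.centralizer (B : Set G))
  card1 : Nat.card ↥(Q ⊓ Subgroup.centralizer (B : Set G)) = 128
  index : π.range.index = 2
  ker : ∀ l, π l = 1 ↔ ∃ q ∈ Q ⊓ Subgroup.centralizer (B : Set G), ∃ b ∈ B, (l : G) = q * b
  faithful : ∀ l : ↥(L z B), (∀ q ∈ Q ⊓ Subgroup.centralizer (B : Set G), q * (l : G) = l * q) → π l = 1
  gB : g ∈ Subgroup.centralizer (B : Set G)
  gz : g * z * g⁻¹ ∈ Q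
  gne : g * z * g⁻¹ ≠ z

set_option maxHeartbeats 1600000 in
theorem exists_data (z : G) (C : Subgroup G) (memC : ∀ g : G, g ∈ C ↔ g * z = z * g) (Q : Subgroup C) [Q.Normal]
    (st : Setting (Q.map C.subtype) z) (hQ : Cfsg.IsExtraspecial 2 Q) (hcard : Nat.card Q = 2 ^ 9)
    (e : C ⧸ Q ≃* Cfsg.Omega (ZMod 2) (Cfsg.quadFormPlus 4 (ZMod 2)))
    (hnwc : ∃ g : G, g * z * g⁻¹ ∈ Q.map C.subtype ∧ g * z * g⁻¹ ≠ z) :
    ∃ (B : Subgroup G) (π : ↥(L z B) →* isoGrp em) (g : G), Data z (Q.map C.subtype) B π g := by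
  classical
  haveI : Fact (Nat.Prime 2) := ⟨Nat.prime_two⟩
  haveI : Fact (Nat.Prime 3) := ⟨Nat.prime_three⟩
  haveI : Fact (Nat.Prime 5) := ⟨by norm_num⟩
  set R := Q.map C.subtype with hR
  obtain ⟨d, hd⟩ := exists_iso8
  have hcent : ∀ c : C, (∀ x ∈ Q, c * x = x * c) → c ∈ Q := by
    intro c hc
    have h1 : (c : G) ∈ Subgroup.centralizer (R : Set G) := by
      rw [Subgroup.mem_centralizer_iff]
      rintro _ ⟨x, hx, rfl⟩
      exact congrArg Subtype.val (hc x hx).symm
    rw [st.cQ] at h1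
    obtain ⟨y, hy, hyc⟩ := Subgroup.zpowers_le.mpr st.z_mem h1
    exact Subtype.ext hyc ▸ hy
  have h25 : 25 ∣ Nat.card d.ker := by
    have five : orderOf ConwayFive.five4 = 5 := orderOf_eq_prime ConwayFive.five4_pow ConwayFive.five4_ne
    have hd1 : ∀ j : isoGrp ConwayFive.e4 →* isoGrp e8, d (j ConwayFive.five4) = 1 := fun j => by
      rcases Int.units_eq_one_or (d (j ConwayFive.five4)) with h | h
      · exact h
      · have h5 : d (j ConwayFive.five4) ^ 5 = 1 := by
          rw [← map_pow, ← map_pow, ConwayFive.five4_pow, map_one, map_one]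
        rw [h] at h5
        exact absurd h5 (by decide)
    let K : Subgroup (isoGrp ConwayFive.e4) := Subgroup.zpowers ConwayFive.five4
    have hc : ∀ a b, Commute (ConwayFive.j1 a) (ConwayFive.j2 b) := fun a b =>
      Subtype.ext (LinearEquiv.ext fun v => by
        show (ConwayFive.j1 a).1 ((ConwayFive.j2 b).1 v) = (ConwayFive.j2 b).1 ((ConwayFive.j1 a).1 v)
        simp [ConwayFive.j1_apply, ConwayFive.j2_apply, ConwayFive.fs_glue, ConwayFive.sn_glue])
    let f : ↥K × ↥K →* isoGrp e8 :=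
      MonoidHom.mk' (fun p => ConwayFive.j1 p.1.1 * ConwayFive.j2 p.2.1) (fun p q => by
        show ConwayFive.j1 (p.1.1 * q.1.1) * ConwayFive.j2 (p.2.1 * q.2.1) = _
        rw [map_mul, map_mul, mul_assoc, ← mul_assoc (ConwayFive.j1 q.1.1), (hc _ _).eq]
        simp only [mul_assoc])
    have hf : Function.Injective f := by
      rw [injective_iff_map_eq_one]
      rintro ⟨a, b⟩ h
      have h' : ConwayFive.j1 a.1 * ConwayFive.j2 b.1 = 1 := h
      have ha : ∀ u, a.1.1 u = u := fun u => by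
        have := congrArg (fun x : isoGrp e8 => ConwayFive.fs (x.1 (ConwayFive.glue u 0))) h'
        simpa [ConwayFive.j1_apply, ConwayFive.j2_apply, ConwayFive.fs_glue, ConwayFive.sn_glue] using this
      have hb : ∀ u, b.1.1 u = u := fun u => by
        have := congrArg (fun x : isoGrp e8 => ConwayFive.sn (x.1 (ConwayFive.glue 0 u))) h'
        simpa [ConwayFive.j1_apply, ConwayFive.j2_apply, ConwayFive.fs_glue, ConwayFive.sn_glue] using this
      exact Prod.ext (Subtype.ext (Subtype.ext (LinearEquiv.ext ha)))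
        (Subtype.ext (Subtype.ext (LinearEquiv.ext hb)))
    have hle : f.range ≤ d.ker := by
      rintro _ ⟨⟨⟨a, ha⟩, ⟨b, hb⟩⟩, rfl⟩
      obtain ⟨i, rfl⟩ := Subgroup.mem_zpowers_iff.mp ha
      obtain ⟨k, rfl⟩ := Subgroup.mem_zpowers_iff.mp hb
      rw [MonoidHom.mem_ker]
      show d (ConwayFive.j1 (ConwayFive.five4 ^ i) * ConwayFive.j2 (ConwayFive.five4 ^ k)) = 1
      rw [map_mul, map_zpow, map_zpow, map_zpow, map_zpow, hd1, hd1, one_zpow, one_zpow, one_mul]
    have h := Subgroup.card_dvd_of_le hle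
    rw [Nat.card_congr (MonoidHom.ofInjective hf).symm.toEquiv, Nat.card_prod, Nat.card_zpowers, five] at h
    exact h
  have hnA : ∃ A : Subgroup ↥Q, Cfsg.IsElementaryAbelian 2 A ∧ Nat.card ↥A = 2 ^ (4 + 1) := by
    by_contra h
    obtain ⟨ψ⟩ := equiv_model ConwayFive.m8 hQ (by norm_num) hcard false (iff_of_false Bool.false_ne_true h)
      (by rw [ConwayFive.m8, prod_last]; simp)
    have h1 := Subgroup.card_subgroup_dvd_card (SuzType.actHom Q ψ).range
    rw [SuzType.actHom_card Q ψ hcent, Nat.card_congr e.toEquiv, ← hd.card, ConwayFive.card_iso_m8] at h1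
    have := h25.trans h1
    revert this; decide
  obtain ⟨ψ⟩ := equiv_model e8 hQ (by norm_num) hcard true (iff_of_true rfl hnA)
    (by simp [Fin.prod_univ_four])
  let π := SuzType.actHom Q ψ
  have hker : π.ker = Q := SuzType.actHom_ker Q ψ hcent
  have hπcard : Nat.card π.range = Nat.card d.ker := by
    rw [SuzType.actHom_card Q ψ hcent, hd.card]
    exact Nat.card_congr e.toEquiv
  have hπi : π.range.index = 2 := by
    have h1 := π.range.card_mul_index
    rw [hπcard, ← d.ker.card_mul_index, hd.index] at h1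
    exact Nat.eq_of_mul_eq_mul_left Nat.card_pos h1
  have hrange : π.range = d.ker := by
    have hle : d.ker ≤ π.range := hd.comm_le.trans (by
      rw [commutator_def, Subgroup.commutator_le]
      intro a _ b _
      rw [commutatorElement_def, Subgroup.mul_mem_iff_of_index_two hπi, Subgroup.mul_mem_iff_of_index_two hπi,
        Subgroup.mul_mem_iff_of_index_two hπi, inv_mem_iff, inv_mem_iff]
      tauto)
    exact (Subgroup.eq_of_le_of_card_ge hle hπcard.le).symm
  have hd2 : ∀ k : ℕ, d (J2 (rot ^ k)) = 1 := fun k => by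
    rcases Int.units_eq_one_or (d (J2 rot)) with h | h
    · rw [map_pow, map_pow, h, one_pow]
    · have h3 : d (J2 rot) ^ 3 = 1 := by rw [← map_pow, ← map_pow, rot_pow, map_one, map_one]
      rw [h] at h3
      exact absurd h3 (by decide)
  obtain ⟨c₀, hc₀⟩ : J2 rot ∈ π.range := hrange ▸ (MonoidHom.mem_ker.mpr (by simpa using hd2 1))
  set b := c₀ ^ 512 with hb
  have hb3 : b ^ 3 = 1 := by
    have h1 : c₀ ^ 3 ∈ Q := by
      rw [← hker, MonoidHom.mem_ker, map_pow, hc₀, ← map_pow, rot_pow, map_one]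
    have h2 := pow_card_eq_one' (x := (⟨c₀ ^ 3, h1⟩ : Q))
    rw [hcard] at h2
    have h3 := congrArg Subtype.val h2
    rw [SubgroupClass.coe_pow, OneMemClass.coe_one] at h3
    rw [hb, ← pow_mul, mul_comm, pow_mul]
    exact h3
  have hπb : π b = J2 (rot * rot) := by
    rw [hb, map_pow, hc₀, ← map_pow, show (512 : ℕ) = 3 * 170 + 2 by norm_num, pow_add, pow_mul, rot_pow,
      one_pow, one_mul, pow_two]
  have hb1 : b ≠ 1 := fun h => by
    rw [h, map_one] at hπb
    have h2 := J2_injective (hπb.symm.trans (map_one J2).symm)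
    exact unit2_ne (rot_sq_fix _ (DFunLike.congr_fun (congrArg Subtype.val h2) (![(1, 0)] : Coord 1)))
  have hbord : orderOf (b : G) = 3 := by
    rw [Subgroup.orderOf_coe]; exact orderOf_eq_prime hb3 hb1
  -- the fixed points
  have hfix : ∀ q : Q, (b : C) * q = q * b ↔ p2 (ψ q).v = 0 := by
    intro q
    have happ := SuzType.actHom_apply Q ψ b q
    change (π b).1 (ψ q).v = _ at happ
    rw [hπb, J2_apply] at happ
    constructor
    · intro h
      rw [show (⟨b * q * b⁻¹, Subgroup.Normal.conj_mem inferInstance _ q.2 b⟩ : Q) = q from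
        Subtype.ext (mul_inv_eq_iff_eq_mul.mpr h)] at happ
      have h2 := congrArg p2 happ
      rw [p2_glu] at h2
      exact rot_sq_fix _ h2
    · intro h
      rw [h, map_zero, ← h, glu_parts] at happ
      set q' : Q := ⟨b * q * b⁻¹, Subgroup.Normal.conj_mem inferInstance _ q.2 b⟩ with hq'
      have hz1 : ψ (q⁻¹ * q') ∈ Subgroup.center (Model e8) := by
        rw [Model.mem_center_iff, map_mul, map_inv, Model.mul_v, ← happ]
        exact congrArg Model.v (inv_mul_cancel (ψ q))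
      have hcomm : ∀ r : Q, r * (q⁻¹ * q') = q⁻¹ * q' * r := fun r => ψ.injective (by
        rw [map_mul, map_mul ψ (q⁻¹ * q') r]; exact Subgroup.mem_center_iff.mp hz1 _)
      rcases st.eq_of_forall (x := (((q⁻¹ * q' : Q) : C) : G)) ⟨_, (q⁻¹ * q' : Q).2, rfl⟩ (by
        rintro _ ⟨r, hr, rfl⟩
        exact congrArg (fun w : Q => ((w : C) : G)) (hcomm ⟨r, hr⟩)) with e1 | e1
      · have : q⁻¹ * q' = 1 := Subtype.ext (Subtype.ext e1)
        exact mul_inv_eq_iff_eq_mul.mp (congrArg Subtype.val (inv_mul_eq_one.mp this)).symm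
      · exfalso
        have e2 : (b : G) * ((q : C) : G) * (b : G)⁻¹ = ((q : C) : G) * z := by
          rw [← e1, ← Subgroup.coe_inv]; push_cast; simp [hq']
        have e3 : ∀ n : ℕ, (b : G) ^ n * ((q : C) : G) * ((b : G) ^ n)⁻¹ = ((q : C) : G) * z ^ n := by
          intro n
          induction n with
          | zero => simp
          | succ n ih =>
            rw [pow_succ', show (b : G) * (b : G) ^ n * ((q : C) : G) * ((b : G) * (b : G) ^ n)⁻¹ =
              (b : G) * ((b : G) ^ n * ((q : C) : G) * ((b : G) ^ n)⁻¹) * (b : G)⁻¹ by group, ih,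
              show (b : G) * (((q : C) : G) * z ^ n) * (b : G)⁻¹ =
                ((b : G) * ((q : C) : G) * (b : G)⁻¹) * ((b : G) * z ^ n * (b : G)⁻¹) by group, e2,
              ((show Commute (b : G) z from (memC _).mp b.2).pow_right n).eq, mul_inv_cancel_right, pow_succ',
              mul_assoc]
        have e4 := e3 3
        rw [← SubgroupClass.coe_pow, hb3, OneMemClass.coe_one, one_mul, inv_one, mul_one, pow_succ, pow_two,
          st.zz, one_mul] at e4
        exact st.ne_one (mul_eq_left.mp e4.symm)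
  set B := Subgroup.zpowers (b : G) with hB
  have hB3 : Nat.card B = 3 := by rw [hB, Nat.card_zpowers, hbord]
  have hcentB : ∀ x : G, x ∈ Subgroup.centralizer (B : Set G) ↔ (b : G) * x = x * b := by
    intro x
    refine ⟨fun h => Subgroup.mem_centralizer_iff.mp h _ (Subgroup.mem_zpowers _), fun h => ?_⟩
    rw [Subgroup.mem_centralizer_iff]
    intro y hy
    obtain ⟨k, rfl⟩ := Subgroup.mem_zpowers_iff.mp hy
    exact ((show Commute (b : G) x from h).zpow_left k).eq
  -- coordinates of the fixed points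
  let φ : Model em →* Q := ψ.symm.toMonoidHom.comp (MonoidHom.mk' (fun m => (⟨glu m.v 0, m.a⟩ : Model e8))
    (fun m n => by
      refine Model.ext ?_ ?_
      · show glu (m.v + n.v) 0 = glu m.v 0 + glu n.v 0
        rw [← glu_add, add_zero]
      · show m.a + n.a + cocycle em m.v n.v = m.a + n.a + cocycle e8 (glu m.v 0) (glu n.v 0)
        rw [cocycle_split, f6_glu, f6_glu, p2_glu, p2_glu, cocycle_zero_left, add_zero]))
  let Φ : Model em →* G := C.subtype.comp (Q.subtype.comp φ)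
  have hφv : ∀ m, ψ (φ m) = ⟨glu m.v 0, m.a⟩ := fun m => ψ.apply_symm_apply _
  have hΦinj : Function.Injective Φ := fun m n h => by
    have h1 : φ m = φ n := Subtype.ext (Subtype.ext h)
    have h2 := congrArg ψ h1
    rw [hφv, hφv] at h2
    refine Model.ext ?_ (congrArg Model.a h2 :)
    have := congrArg f6 (congrArg Model.v h2)
    rwa [f6_glu, f6_glu] at this
  have hQ1 : Φ.range = R ⊓ Subgroup.centralizer (B : Set G) := by
    ext x
    rw [Subgroup.mem_inf, hcentB]
    constructor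
    · rintro ⟨m, rfl⟩
      refine ⟨⟨_, (φ m).2, rfl⟩, ?_⟩
      have h := (hfix (φ m)).mpr (by rw [hφv]; exact p2_glu _ _)
      exact congrArg Subtype.val h
    · rintro ⟨⟨y, hy, rfl⟩, hb'⟩
      have h := (hfix ⟨y, hy⟩).mp (Subtype.ext hb')
      refine ⟨⟨f6 (ψ ⟨y, hy⟩).v, (ψ ⟨y, hy⟩).a⟩, ?_⟩
      show ((φ _ : C) : G) = (y : G)
      rw [show φ ⟨f6 (ψ ⟨y, hy⟩).v, (ψ ⟨y, hy⟩).a⟩ = ⟨y, hy⟩ from ψ.injective (by
        rw [hφv]
        exact Model.ext ((congrArg (glu _) h.symm).trans (glu_parts _)) rfl)]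
  let E : Model em ≃* ↥(R ⊓ Subgroup.centralizer (B : Set G)) :=
    (MonoidHom.ofInjective hΦinj).trans (MulEquiv.subgroupCongr hQ1)
  -- the restriction
  have inC : ∀ l : ↥(L z B), (l : G) ∈ C := fun l =>
    (memC _).mpr (Subgroup.mem_centralizer_singleton_iff.mp l.2.1)
  let πl : ↥(L z B) →* isoGrp e8 := π.comp ((L z B).subtype.codRestrict C inC)
  have hdec : ∀ l, ∃ (α : isoGrp em) (k : ℕ), πl l = J6 α * J2 (rot ^ k) := fun l => by
    refine split_of_comm _ ?_
    rw [← hπb]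
    show π _ * π b = π b * π _
    rw [← map_mul, ← map_mul]
    exact congrArg π (Subtype.ext ((hcentB _).mp l.2.2).symm)
  have huniq : ∀ {α α' : isoGrp em} {k k' : ℕ}, J6 α * J2 (rot ^ k) = J6 α' * J2 (rot ^ k') → α = α' := by
    intro α α' k k' h
    refine Subtype.ext (LinearEquiv.ext fun u => ?_)
    have h1 := congrArg (fun x : isoGrp e8 => f6 (x.1 (glu u 0))) h
    change f6 ((J6 α).1 ((J2 (rot ^ k)).1 (glu u 0))) = f6 ((J6 α').1 ((J2 (rot ^ k')).1 (glu u 0))) at h1
    rwa [J2_apply, J2_apply, J6_apply, J6_apply, f6_glu, f6_glu, f6_glu, f6_glu, f6_glu] at h1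
  choose ρ kf hρ using hdec
  let ρh : ↥(L z B) →* isoGrp em := MonoidHom.mk' ρ fun l l' => huniq (k := kf (l * l')) (k' := kf l + kf l') (by
    rw [← hρ, map_mul, hρ, hρ, map_mul J6, pow_add, map_mul J2]
    simp only [mul_assoc]
    rw [← mul_assoc (J2 (rot ^ kf l)), ← J_comm, mul_assoc])
  have hrng : ρh.range = (d.comp J6).ker := by
    ext α
    constructor
    · rintro ⟨l, rfl⟩
      show d (J6 (ρ l)) = 1
      have h1 : d (πl l) = 1 := by
        rw [← MonoidHom.mem_ker, ← hrange]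
        exact ⟨_, rfl⟩
      rwa [hρ, map_mul, hd2, mul_one] at h1
    · intro hα
      obtain ⟨c, hc⟩ : J6 α ∈ π.range := hrange ▸ (show J6 α ∈ d.ker from hα)
      let S : Set C := {x | π x = J6 α}
      have hBC : Nat.card ↥(Subgroup.zpowers b) = 3 := by
        rw [Nat.card_zpowers]; exact orderOf_eq_prime hb3 hb1
      have hS : ∀ y ∈ Subgroup.zpowers b, ∀ x ∈ S, y * x * y⁻¹ ∈ S := by
        intro y hy x hx
        obtain ⟨i, rfl⟩ := Subgroup.mem_zpowers_iff.mp hy
        show π _ = _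
        rw [map_mul, map_mul, map_inv, show π x = J6 α from hx, map_zpow, hπb, ← map_zpow J2, ← J_comm,
          mul_inv_cancel_right]
      have hcS : Nat.card S = 512 := by
        rw [show (512 : ℕ) = 2 ^ 9 by norm_num, ← hcard]
        exact Nat.card_congr
          { toFun := fun x => ⟨c⁻¹ * x.1, by
              rw [← hker, MonoidHom.mem_ker, map_mul, map_inv, hc, show π x.1 = J6 α from x.2, inv_mul_cancel]⟩
            invFun := fun q => ⟨c * q.1, by
              show π _ = _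
              rw [map_mul, hc, show π q.1 = 1 from (MonoidHom.mem_ker).mp (hker.ge q.2), mul_one]⟩
            left_inv := fun x => Subtype.ext (mul_inv_cancel_left c x.1)
            right_inv := fun q => Subtype.ext (inv_mul_cancel_left c q.1) }
      obtain ⟨x, hx, hxb⟩ := exists_fixed hBC S hS (by rw [hcS]; norm_num)
      have hxL : (x : G) ∈ L z B := ⟨Subgroup.mem_centralizer_singleton_iff.mpr ((memC _).mp x.2),
        (hcentB _).mpr (congrArg Subtype.val (hxb b (Subgroup.mem_zpowers b)))⟩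
      refine ⟨⟨x, hxL⟩, huniq (k := kf ⟨x, hxL⟩) (k' := 0) ?_⟩
      show J6 (ρ _) * _ = _
      rw [← hρ, pow_zero, map_one, mul_one]
      exact hx
  have hidx : ρh.range.index = 2 := by
    have hsw : d (J6 swap6) = -1 := by rw [J6_swap6]; exact hd.odd1
    have hsurj : Function.Surjective (d.comp J6) := fun w => by
      rcases Int.units_eq_one_or w with rfl | rfl
      · exact ⟨1, map_one _⟩
      · exact ⟨swap6, hsw⟩
    rw [hrng, Subgroup.index_ker, MonoidHom.range_eq_top.2 hsurj, Subgroup.card_top, Nat.card_eq_fintype_card]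
    rfl
  have hker' : ∀ l, ρh l = 1 ↔
      ∃ q ∈ R ⊓ Subgroup.centralizer (B : Set G), ∃ y ∈ B, (l : G) = q * y := by
    intro l
    constructor
    · intro h
      have h1 : πl l = J2 (rot ^ kf l) := by rw [hρ, show ρ l = 1 from h, map_one, one_mul]
      set w : C := ⟨l, inC l⟩ * (b ^ (2 * kf l))⁻¹ with hw
      have h2 : w ∈ Q := by
        rw [← hker, MonoidHom.mem_ker, hw, map_mul, map_inv, map_pow, hπb]
        show πl l * _ = 1
        rw [h1, ← map_pow, ← map_inv, ← map_mul, ← pow_two, ← pow_mul,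
          show 2 * (2 * kf l) = kf l + 3 * kf l by ring, pow_add, pow_mul, rot_pow, one_pow, mul_one,
          mul_inv_cancel, map_one]
      refine ⟨(w : G), Subgroup.mem_inf.mpr ⟨⟨w, h2, rfl⟩, ?_⟩, (b : G) ^ (2 * kf l),
        pow_mem (Subgroup.mem_zpowers _) _, ?_⟩
      · rw [hw, Subgroup.coe_mul, Subgroup.coe_inv, SubgroupClass.coe_pow]
        exact mul_mem l.2.2 (inv_mem (pow_mem ((hcentB _).mpr rfl) _))
      · simp [hw]
    · rintro ⟨q, hq, y, hy, hl⟩
      obtain ⟨q', hq', rfl⟩ := hq.1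
      obtain ⟨i, rfl⟩ := Subgroup.mem_zpowers_iff.mp hy
      have h1 : πl l = J2 ((rot * rot) ^ i) := by
        show π ⟨l, inC l⟩ = _
        rw [show (⟨(l : G), inC l⟩ : C) = q' * b ^ i from Subtype.ext (by
            rw [hl, Subgroup.coe_mul, SubgroupClass.coe_zpow]; rfl),
          map_mul, map_zpow, hπb, map_zpow, (MonoidHom.mem_ker).mp (hker.ge hq'), one_mul]
      refine Subtype.ext (LinearEquiv.ext fun u => ?_)
      have h2 := congrArg (fun x : isoGrp e8 => f6 (x.1 (glu u 0))) ((hρ l).symm.trans h1)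
      change f6 ((J6 (ρ l)).1 ((J2 (rot ^ kf l)).1 (glu u 0))) = f6 ((J2 ((rot * rot) ^ i)).1 (glu u 0)) at h2
      rw [J2_apply, J2_apply, J6_apply, f6_glu, f6_glu, f6_glu, f6_glu] at h2
      exact h2
  have hfaith : ∀ l : ↥(L z B), (∀ q ∈ R ⊓ Subgroup.centralizer (B : Set G), q * (l : G) = l * q) → ρh l = 1 := by
    intro l hl
    refine Subtype.ext (LinearEquiv.ext fun u => ?_)
    have h1 := hl (Φ ⟨u, 0⟩) (hQ1 ▸ ⟨_, rfl⟩)
    have h2 := SuzType.actHom_apply Q ψ ⟨l, inC l⟩ (φ ⟨u, 0⟩)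
    rw [show (⟨(⟨l, inC l⟩ : C) * (φ ⟨u, 0⟩ : C) * (⟨l, inC l⟩ : C)⁻¹,
      Subgroup.Normal.conj_mem inferInstance _ (φ ⟨u, 0⟩).2 _⟩ : Q) = φ ⟨u, 0⟩ from
        Subtype.ext (Subtype.ext (mul_inv_eq_iff_eq_mul.mpr h1.symm))] at h2
    change (πl l).1 _ = _ at h2
    rw [hφv, hρ] at h2
    have h3 := congrArg f6 h2
    change f6 ((J6 (ρ l)).1 ((J2 (rot ^ kf l)).1 (glu u 0))) = f6 (glu u 0) at h3
    rw [J2_apply, J6_apply, f6_glu, f6_glu, f6_glu] at h3
    exact h3
  -- a mover
  obtain ⟨k₀, hk₀, hk₀z⟩ := hnwc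
  obtain ⟨q₀, hq₀, hq₀e⟩ := hk₀
  have hk₀e : ((q₀ : C) : G) = k₀ * z * k₀⁻¹ := hq₀e
  have hsq : sqForm e8 (ψ ⟨q₀, hq₀⟩).v = 0 := by
    have h : (⟨q₀, hq₀⟩ : Q) * ⟨q₀, hq₀⟩ = 1 := Subtype.ext (Subtype.ext (by
      show (q₀ : G) * q₀ = 1
      rw [hk₀e, show k₀ * z * k₀⁻¹ * (k₀ * z * k₀⁻¹) = k₀ * (z * z) * k₀⁻¹ by group, st.zz]; group))
    have h1 := congrArg ψ h
    rw [map_mul, map_one, ← pow_two, Model.sq_mem] at h1
    exact congrArg Model.a h1
  have hv0 : (ψ ⟨q₀, hq₀⟩).v ≠ 0 := fun h => by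
    rw [← Model.mem_center_iff] at h
    rcases st.eq_of_forall (x := k₀ * z * k₀⁻¹) ⟨q₀, hq₀, hq₀e⟩ (by
      rintro _ ⟨r, hr, rfl⟩
      have := Subgroup.mem_center_iff.mp h (ψ ⟨r, hr⟩)
      rw [← map_mul, ← map_mul] at this
      rw [← hk₀e]
      exact congrArg (fun w : Q => ((w : C) : G)) (ψ.injective this)) with h' | h'
    · exact st.ne_one (conj_eq_one_iff.mp h')
    · exact hk₀z h'
  obtain ⟨c, hc⟩ : ∃ c : C, (π c).1 (ψ ⟨q₀, hq₀⟩).v = dec8 1 := by
    set v := (ψ ⟨q₀, hq₀⟩).v with hv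
    by_cases hs : v = dec8 1
    · exact ⟨1, by rw [map_one]; exact hs⟩
    obtain ⟨w, hw, hw1, hw2⟩ := exists_step v hsq hv0 hs
    set s := dec8 1
    have hsw : sqForm e8 (s + w) = 0 := by
      rw [sq_add, dec8_one.1, hw, zero_add, show pol s w = pol w s from add_comm _ _, hw1]
      exact CharTwo.add_self_eq_zero _
    set a := v + (s + w) with ha
    have ha1 : sqForm e8 a = 1 := by rw [ha, sq_add, hsq, hsw, hw2, add_zero, zero_add]
    obtain ⟨ra, hra, hra'⟩ := hd.refl a ha1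
    obtain ⟨rb, hrb, hrb'⟩ := hd.refl w hw
    have hmem : rb * ra ∈ π.range := by
      rw [hrange, MonoidHom.mem_ker, map_mul, hra, hrb]; rfl
    obtain ⟨c, hc⟩ := hmem
    refine ⟨c, ?_⟩
    rw [hc]
    show rb.1 (ra.1 v) = s
    have hself : ∀ x, pol x x = 0 := fun x => CharTwo.add_self_eq_zero _
    have hpa : pol a v = 1 := by
      rw [show pol a v = pol v v + pol v (s + w) by
        simp only [pol, ha, cocycle_add_left, cocycle_add_right]; ring, hself, zero_add, hw2]
    rw [hra', hpa, one_smul, ha, ← add_assoc, neg_eq_two, zero_add, hrb',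
      show pol w (s + w) = pol w s + pol w w by simp only [pol, cocycle_add_left, cocycle_add_right]; ring,
      hw1, hself, add_zero, one_smul, add_assoc, neg_eq_two, add_zero]
  set qx : Q := ⟨c * q₀ * c⁻¹, Subgroup.Normal.conj_mem inferInstance _ hq₀ c⟩ with hqx
  have hxv : (ψ qx).v = dec8 1 := by
    rw [← hc]
    exact (SuzType.actHom_apply Q ψ c ⟨q₀, hq₀⟩).symm
  set k := (c : G) * k₀ with hk
  set x := k * z * k⁻¹ with hx
  have hqxe : ((qx : C) : G) = x := by
    show (c : G) * q₀ * (c : G)⁻¹ = _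
    rw [hk₀e, hx, hk]; group
  have hxR : x ∈ R := ⟨_, qx.2, hqxe⟩
  have hxz : x ≠ z := fun h => hk₀z (by
    have hcz : (c : G)⁻¹ * z * c = z := by rw [mul_assoc, ← (memC _).mp c.2, inv_mul_cancel_left]
    calc k₀ * z * k₀⁻¹ = (c : G)⁻¹ * x * c := by rw [hx, hk]; group
      _ = _ := by rw [h, hcz])
  have hxB : x ∈ Subgroup.centralizer (B : Set G) := by
    rw [hcentB, ← hqxe]
    exact congrArg Subtype.val ((hfix qx).mpr (by rw [hxv]; exact moved.2.2))
  set qu : Q := ψ.symm ⟨dec8 2, 0⟩ with hqu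
  set u := ((qu : C) : G) with hu
  have huR : u ∈ R := ⟨_, qu.2, rfl⟩
  have huB : u ∈ Subgroup.centralizer (B : Set G) := by
    rw [hcentB, hu]
    exact congrArg Subtype.val ((hfix qu).mpr (by rw [hqu, ψ.apply_symm_apply]; exact moved.2.1))
  have hux : u * x * u⁻¹ = z * x := by
    refine (st.comm_cases huR hxR).resolve_left fun h => moved.1 ?_
    have h1 : qu * qx = qx * qu := Subtype.ext (Subtype.ext (by
      show u * ((qx : C) : G) = ((qx : C) : G) * u
      rw [hqxe]; exact mul_inv_eq_iff_eq_mul.mp h))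
    have h2 := congrArg ψ h1
    rw [map_mul, map_mul, Model.comm_iff, hqu, ψ.apply_symm_apply, hxv] at h2
    exact h2.symm
  have hRcard : Nat.card R = 512 := by
    rw [hR, Subgroup.card_map_of_injective C.subtype_injective, hcard]; norm_num
  have P : Pair R z k := ⟨st, hxR, hxz, by rw [hRcard]; norm_num⟩
  obtain ⟨u0, hu0, -, hu0z, -⟩ := P.exists_swap'
  let S : Set G := {w | w ∈ Qc R k ∧ w * z * w⁻¹ = z * x}
  have hS : ∀ y ∈ B, ∀ w ∈ S, y * w * y⁻¹ ∈ S := by
    rintro y hy w ⟨hw, hwz⟩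
    have hyz : y * z = z * y := by
      obtain ⟨i, rfl⟩ := Subgroup.mem_zpowers_iff.mp hy
      exact ((show Commute (b : G) z from (memC _).mp b.2).zpow_left i).eq
    have hyx : y * x = x * y := Subgroup.mem_centralizer_iff.mp hxB y hy
    refine ⟨(Subgroup.mem_normalizer_iff.mp (P.s'.cz (Subgroup.mem_centralizer_singleton_iff.mpr hyx)) w).mp hw, ?_⟩
    have h1 : y⁻¹ * z * y = z := by rw [mul_assoc, ← hyz, inv_mul_cancel_left]
    calc y * w * y⁻¹ * z * (y * w * y⁻¹)⁻¹ = y * (w * (y⁻¹ * z * y) * w⁻¹) * y⁻¹ := by group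
      _ = y * (z * x) * y⁻¹ := by rw [h1, hwz]
      _ = z * x := conj_eq_self ((show Commute y z from hyz).mul_right hyx)
  let P' : Subgroup G := Qc R k ⊓ Subgroup.centralizer ({z} : Set G)
  have hcardS : Nat.card S = Nat.card P' := Nat.card_congr
    { toFun := fun w => ⟨u0⁻¹ * w.1, Subgroup.mem_inf.mpr ⟨mul_mem (inv_mem hu0) w.2.1, by
        apply Subgroup.mem_centralizer_singleton_iff.mpr
        have h := w.2.2.trans hu0z.symm
        calc u0⁻¹ * w.1 * z = u0⁻¹ * (w.1 * z * w.1⁻¹) * w.1 := by group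
          _ = u0⁻¹ * (u0 * z * u0⁻¹) * w.1 := by rw [h]
          _ = _ := by group⟩⟩
      invFun := fun p => ⟨u0 * p.1, mul_mem hu0 p.2.1, by
        rw [show u0 * p.1 * z * (u0 * p.1)⁻¹ = u0 * (p.1 * z * p.1⁻¹) * u0⁻¹ by group,
          conj_eq_self (Subgroup.mem_centralizer_singleton_iff.mp p.2.2), hu0z]⟩
      left_inv := fun w => Subtype.ext (mul_inv_cancel_left u0 w.1)
      right_inv := fun p => Subtype.ext (inv_mul_cancel_left u0 p.1) }
  have h3 : ¬ 3 ∣ Nat.card S := by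
    intro h
    rw [hcardS] at h
    have := h.trans (Subgroup.card_dvd_of_le (show P' ≤ Qc R k from inf_le_left))
    rw [← Nat.card_congr (R.equivMapOfInjective _ (MulAut.conj k).injective).toEquiv, hRcard] at this
    norm_num at this
  obtain ⟨u', ⟨hu', hu'z⟩, hu'B⟩ := exists_fixed hB3 S hS h3
  have hgz : u * u' * z * (u * u')⁻¹ = x := by
    rw [show u * u' * z * (u * u')⁻¹ = u * (u' * z * u'⁻¹) * u⁻¹ by group, hu'z,
      show u * (z * x) * u⁻¹ = (u * z * u⁻¹) * (u * x * u⁻¹) by group,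
      conj_eq_self (st.z_comm huR), hux, ← mul_assoc, st.zz, one_mul]
  refine ⟨B, ρh, u * u', st, hB3, ?_, isExtraspecial_congr E (Model.isExtraspecial (by norm_num)), ?_, hidx,
    hker', hfaith, mul_mem huB (Subgroup.mem_centralizer_iff.mpr hu'B), by rw [hgz]; exact hxR, by rw [hgz]; exact hxz⟩
  · rw [hB, Subgroup.zpowers_le]; exact Subgroup.mem_centralizer_singleton_iff.mpr ((memC _).mp b.2)
  · rw [← Nat.card_congr E.toEquiv, Model.card]; norm_num

end CfsgLib.ConwayThree
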