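import Cfsg.Agent.Lib.ConwayThree.Exists
import Cfsg.Agent.Lib.SuzType.Simple
import Cfsg.Agent.Lib.J2Uniq.Simple

/-!
The centraliser of an element of order three, modulo that element, has Suzuki type.
-/

set_option autoImplicit false
set_option linter.style.haveILetI false

namespace CfsgLib.ConwayThree

open CfsgLib.Extraspecial
open CfsgLib.SuzType (em)

/-- A normal two-subgroup containing its centraliser, with simple quotient of order divisible by three. -/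
theorem gfs_eq {C : Type*} [Group C] [Finite C] (Q : Subgroup C) [hn : Q.Normal] {n : ℕ} (hcard : Nat.card Q = 2 ^ n)
    (h2c : Subgroup.centralizer (Q : Set C) ≤ Q) {S : Type*} [Group S] [IsSimpleGroup S] (h3 : 3 ∣ Nat.card S)
    (e : C ⧸ Q ≃* S) : Cfsg.generalizedFittingSubgroup C = Q := by
  haveI : Fact (Nat.Prime 2) := ⟨Nat.prime_two⟩
  have hle : Q ≤ Cfsg.pCore 2 C := Fitting.le_pCore inferInstance (IsPGroup.of_card hcard)
  have hge : Cfsg.pCore 2 C ≤ Q := by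
    intro x hx
    let π : C →* S := e.toMonoidHom.comp (QuotientGroup.mk' Q)
    have hs : Function.Surjective π := e.surjective.comp (QuotientGroup.mk'_surjective Q)
    haveI : (Cfsg.pCore 2 C).Normal := Fitting.pCore_normal 2
    rcases Subgroup.Normal.eq_bot_or_eq_top (Subgroup.Normal.map (inferInstance : (Cfsg.pCore 2 C).Normal) π hs)
      with h | h
    · have h1 : π x = 1 := by rw [← Subgroup.mem_bot, ← h]; exact ⟨x, hx, rfl⟩
      exact (QuotientGroup.eq_one_iff x).1 (e.injective (h1.trans (map_one e).symm))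
    · exfalso
      have hd := Subgroup.card_map_dvd (Cfsg.pCore 2 C) π
      rw [h, Subgroup.card_top] at hd
      obtain ⟨m, hm⟩ := IsPGroup.iff_card.1 (Fitting.pCore_isPGroup (p := 2) (G := C))
      rw [hm] at hd
      exact absurd (Nat.prime_three.dvd_of_dvd_pow (h3.trans hd)) (by norm_num)
  have hc : Cfsg.pCore 2 C = Q := le_antisymm hge hle
  rw [← hc]
  exact Layer.generalizedFitting_eq_pCore_iff.2 (by rw [hc]; exact h2c)

variable {G : Type*} [Group G] [Finite G] {z g : G} {Q B : Subgroup G} {π : ↥(L z B) →* isoGrp em}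

theorem Data.quot_data (D : Data z Q B π g) [(B.subgroupOf (Subgroup.centralizer (B : Set G))).Normal] :
    IsSimpleGroup (↥(Subgroup.centralizer (B : Set G)) ⧸ B.subgroupOf (Subgroup.centralizer (B : Set G))) ∧
    ¬ IsMulCommutative (↥(Subgroup.centralizer (B : Set G)) ⧸ B.subgroupOf (Subgroup.centralizer (B : Set G))) ∧
    ∃ zb : ↥(Subgroup.centralizer (B : Set G)) ⧸ B.subgroupOf (Subgroup.centralizer (B : Set G)), orderOf zb = 2 ∧
      ∃ (Qx : Subgroup (Subgroup.centralizer ({zb} : Set (↥(Subgroup.centralizer (B : Set G)) ⧸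
          B.subgroupOf (Subgroup.centralizer (B : Set G)))))) (_ : Qx.Normal),
        Cfsg.generalizedFittingSubgroup (Subgroup.centralizer ({zb} : Set _)) = Qx ∧
        Cfsg.IsExtraspecial 2 Qx ∧ Nat.card Qx = 2 ^ 7 ∧
        Nonempty ((Subgroup.centralizer ({zb} : Set _)) ⧸ Qx ≃*
          Cfsg.Omega (ZMod 2) (Cfsg.quadFormMinus 2 (ZMod 2) 1 1)) ∧
        ∃ x, (∃ hq : x * zb * x⁻¹ ∈ Subgroup.centralizer ({zb} : Set _),
          (⟨x * zb * x⁻¹, hq⟩ : Subgroup.centralizer ({zb} : Set _)) ∈ Qx) ∧ x * zb * x⁻¹ ≠ zb := by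
  classical
  haveI : Fact (Nat.Prime 2) := ⟨Nat.prime_two⟩
  set H := Subgroup.centralizer (B : Set G) with hH
  set N := B.subgroupOf H with hN
  let mk : ↥H →* ↥H ⧸ N := QuotientGroup.mk' N
  have hmk : ∀ a b : ↥H, mk a = mk b → ∃ n ∈ B, (b : G) = a * n := fun a b h =>
    ⟨(a : G)⁻¹ * b, (QuotientGroup.eq.mp h : a⁻¹ * b ∈ N), (mul_inv_cancel_left _ _).symm⟩
  have hzB : ∀ n ∈ B, n * z = z * n := fun n hn => Subgroup.mem_centralizer_singleton_iff.mp (D.Bz hn)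
  have hB2 : ∀ n ∈ B, n * n = 1 → n = 1 := fun n hn h => by
    have h3 : n ^ 3 = 1 := by
      have := congrArg Subtype.val (pow_card_eq_one' (x := (⟨n, hn⟩ : B)))
      rwa [D.cardB] at this
    rwa [pow_succ, pow_two, h, one_mul] at h3
  have hBQ : ∀ n ∈ B, n ∈ Q → n = 1 := fun n hn hq => by
    rcases D.st.sq_cases hq with h | h
    · exact hB2 n hn h
    · exfalso
      refine D.st.ne_one (hB2 z ?_ D.st.zz)
      exact h ▸ mul_mem hn hn
  have hzH : z ∈ H := Subgroup.mem_centralizer_iff.mpr fun n hn => hzB n hn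
  set zb : ↥H ⧸ N := mk ⟨z, hzH⟩ with hzb
  have hzord : orderOf zb = 2 := by
    refine orderOf_eq_prime ?_ fun h => D.st.ne_one (hBQ z ((QuotientGroup.eq_one_iff (N := N) ⟨z, hzH⟩).mp h : (⟨z, hzH⟩ : ↥H) ∈ N) D.st.z_mem)
    rw [pow_two, hzb, ← map_mul, show (⟨z, hzH⟩ : ↥H) * ⟨z, hzH⟩ = 1 from Subtype.ext D.st.zz, map_one]
  set C := Subgroup.centralizer ({zb} : Set (↥H ⧸ N)) with hC
  let inH : ↥(L z B) →* ↥H := Subgroup.inclusion inf_le_right
  let f : ↥(L z B) →* ↥C := (mk.comp inH).codRestrict C fun l => by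
    rw [hC, Subgroup.mem_centralizer_singleton_iff, hzb]
    show mk (inH l) * mk ⟨z, hzH⟩ = mk ⟨z, hzH⟩ * mk (inH l)
    rw [← map_mul, ← map_mul]
    exact congrArg mk (Subtype.ext (Subgroup.mem_centralizer_singleton_iff.mp l.2.1))
  have hfsurj : Function.Surjective f := by
    rintro ⟨x, hx⟩
    obtain ⟨h, rfl⟩ := QuotientGroup.mk'_surjective N x
    rw [hC, Subgroup.mem_centralizer_singleton_iff, hzb] at hx
    change mk h * mk _ = mk _ * mk h at hx
    rw [← map_mul, ← map_mul] at hx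
    obtain ⟨n, hn, e⟩ := hmk _ _ hx
    have e' : z * (h : G) = h * z * n := e
    have hnn : n = 1 := by
      refine hB2 n hn ?_
      have h2 : (h : G)⁻¹ * z * h = z * n := by rw [mul_assoc, e']; group
      have h3 : (z * n) * (z * n) = 1 := by
        rw [← h2, show (h : G)⁻¹ * z * h * ((h : G)⁻¹ * z * h) = (h : G)⁻¹ * (z * z) * h by group, D.st.zz]
        group
      rwa [show z * n * (z * n) = z * (n * z) * n by group, hzB n hn, ← mul_assoc z z, D.st.zz,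
        one_mul] at h3
    rw [hnn, mul_one] at e'
    exact ⟨⟨h, ⟨Subgroup.mem_centralizer_singleton_iff.mpr e'.symm, h.2⟩⟩, rfl⟩
  have hfker : ∀ l, f l = 1 ↔ (l : G) ∈ B := fun l =>
    ⟨fun h => (QuotientGroup.eq_one_iff (inH l)).mp (congrArg Subtype.val h),
      fun h => Subtype.ext ((QuotientGroup.eq_one_iff (inH l)).mpr h)⟩
  have hkle : f.ker ≤ π.ker := fun l hl => (D.ker l).mpr ⟨1, one_mem _, l, (hfker l).mp hl, (one_mul _).symm⟩
  let πC : ↥C →* isoGrp em := f.liftOfSurjective hfsurj ⟨π, hkle⟩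
  have hπC : ∀ l, πC (f l) = π l := MonoidHom.liftOfRightInverse_comp_apply _ _ _ ⟨π, hkle⟩
  have hrange : πC.range = π.range := by
    ext a
    constructor
    · rintro ⟨c, rfl⟩
      obtain ⟨l, rfl⟩ := hfsurj c
      exact ⟨l, (hπC l).symm⟩
    · rintro ⟨l, rfl⟩
      exact ⟨f l, hπC l⟩
  set Qx := πC.ker with hQx
  set R1 := Q ⊓ Subgroup.centralizer (B : Set G) with hR1
  have hR1L : R1 ≤ L z B := fun q hq =>
    ⟨Subgroup.mem_centralizer_singleton_iff.mpr (D.st.z_comm hq.1), hq.2⟩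
  let ι : ↥R1 →* ↥Qx := (f.comp (Subgroup.inclusion hR1L)).codRestrict Qx fun q => by
    rw [hQx, MonoidHom.mem_ker]
    show πC (f _) = 1
    rw [hπC, D.ker]
    exact ⟨q, q.2, 1, one_mem _, (mul_one _).symm⟩
  have hιbij : Function.Bijective ι := by
    constructor
    · rw [injective_iff_map_eq_one]
      intro q hq
      exact Subtype.ext (hBQ q ((hfker _).mp (congrArg Subtype.val hq)) q.2.1)
    · rintro ⟨c, hc⟩
      obtain ⟨l, rfl⟩ := hfsurj c
      rw [hQx, MonoidHom.mem_ker, hπC, D.ker] at hc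
      obtain ⟨q, hq, b, hb, hl⟩ := hc
      refine ⟨⟨q, hq⟩, Subtype.ext ?_⟩
      show f (Subgroup.inclusion hR1L ⟨q, hq⟩) = f l
      refine inv_mul_eq_one.mp ?_
      rw [← map_inv, ← map_mul, hfker]
      show q⁻¹ * (l : G) ∈ B
      rw [hl, inv_mul_cancel_left]
      exact hb
  let eQ : ↥R1 ≃* ↥Qx := MulEquiv.ofBijective ι hιbij
  have hcard : Nat.card Qx = 2 ^ 7 := (Nat.card_congr eQ.symm.toEquiv).trans (D.card1.trans (by norm_num))
  have hQext : Cfsg.IsExtraspecial 2 Qx := isExtraspecial_congr eQ D.ex1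
  obtain ⟨ω⟩ := index_two_iso π.range D.index
  let eA : ↥C ⧸ Qx ≃* Cfsg.Omega (ZMod 2) (Cfsg.quadFormMinus 2 (ZMod 2) 1 1) :=
    ((QuotientGroup.quotientKerEquivRange πC).trans (MulEquiv.subgroupCongr hrange)).trans ω
  have h2c : Subgroup.centralizer (Qx : Set ↥C) ≤ Qx := by
    intro c hc
    obtain ⟨l, rfl⟩ := hfsurj c
    have h1 : ∀ q ∈ R1, q * (l : G) = l * q := fun q hq => by
      have h := Subgroup.mem_centralizer_iff.mp hc _ (eQ ⟨q, hq⟩).2
      have h' : f ((Subgroup.inclusion hR1L ⟨q, hq⟩ * l) * (l * Subgroup.inclusion hR1L ⟨q, hq⟩)⁻¹) = 1 := by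
        rw [map_mul, map_inv, map_mul, map_mul, mul_inv_eq_one]
        exact h
      have h2 : q * (l : G) * ((l : G) * q)⁻¹ ∈ B := (hfker _).mp h'
      have hlQ : (l : G) * q⁻¹ * (l : G)⁻¹ ∈ Q :=
        (Subgroup.mem_normalizer_iff.mp (D.st.cz l.2.1) q⁻¹).mp (inv_mem hq.1)
      have h3 : q * (l : G) * ((l : G) * q)⁻¹ = 1 := hBQ _ h2 (by
        rw [show q * (l : G) * ((l : G) * q)⁻¹ = q * ((l : G) * q⁻¹ * (l : G)⁻¹) by group]
        exact mul_mem hq.1 hlQ)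
      exact mul_inv_eq_one.mp h3
    rw [hQx, MonoidHom.mem_ker, hπC]
    exact D.faithful l h1
  haveI := SuzType.omega_simple
  have hF := gfs_eq Qx hcard h2c (by rw [SuzType.card_omega]; norm_num) eA
  have hgzH : g * z * g⁻¹ ∈ H := mul_mem (mul_mem D.gB hzH) (inv_mem D.gB)
  have hnwc : ∃ x : ↥H ⧸ N, (∃ hq : x * zb * x⁻¹ ∈ C, (⟨x * zb * x⁻¹, hq⟩ : ↥C) ∈ Qx) ∧ x * zb * x⁻¹ ≠ zb := by
    have hz' : g * z * g⁻¹ ∈ R1 := ⟨D.gz, hgzH⟩
    have e : mk ⟨g, D.gB⟩ * zb * (mk ⟨g, D.gB⟩)⁻¹ = ((eQ ⟨_, hz'⟩ : ↥Qx) : ↥C) := by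
      rw [hzb, ← map_inv, ← map_mul, ← map_mul]
      rfl
    refine ⟨mk ⟨g, D.gB⟩, ⟨e ▸ (eQ ⟨_, hz'⟩).1.2, ?_⟩, fun h => D.gne ?_⟩
    · rw [show (⟨mk ⟨g, D.gB⟩ * zb * (mk ⟨g, D.gB⟩)⁻¹, e ▸ (eQ ⟨_, hz'⟩).1.2⟩ : ↥C) = (eQ ⟨_, hz'⟩).1 from
        Subtype.ext e]
      exact (eQ ⟨_, hz'⟩).2
    · have hz1 : z ∈ R1 := ⟨D.st.z_mem, hzH⟩
      have h1 : eQ ⟨_, hz'⟩ = eQ ⟨z, hz1⟩ := Subtype.ext (Subtype.ext (e.symm.trans h))
      exact congrArg Subtype.val (eQ.injective h1)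
  obtain ⟨hs, hna⟩ := SuzType.isSimpleGroup_of_hyp zb hzord Qx hF hQext hcard eA hnwc
  exact ⟨hs, hna, zb, hzord, Qx, inferInstance, hF, hQext, hcard, ⟨eA⟩, hnwc⟩

end CfsgLib.ConwayThree
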