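import Cfsg.Agent.Lib.ConwayFive.Model
import Cfsg.Agent.Lib.SuzType.Build

/-!
The isometries of the form `Q_6^- ⊥ Q_2^-` of dimension eight over the field with two elements.
-/

set_option autoImplicit false

namespace CfsgLib.ConwayThree

open CfsgLib.Extraspecial
open CfsgLib.ConwayFive (e8)
open CfsgLib.SuzType (em)

/-- Coordinates of minus type in dimension two. -/
abbrev e2 : Fin 1 → ZMod 2 := ![1]

/-- The six dimensional part. -/
def f6 (v : Coord 4) : Coord 3 := ![v 0, v 2, v 1]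

/-- The plane. -/
def p2 (v : Coord 4) : Coord 1 := ![v 3]

/-- Glueing. -/
def glu (u : Coord 3) (w : Coord 1) : Coord 4 := ![u 0, u 2, u 1, w 0]

theorem f6_glu (u : Coord 3) (w : Coord 1) : f6 (glu u w) = u := by funext i; fin_cases i <;> rfl

theorem p2_glu (u : Coord 3) (w : Coord 1) : p2 (glu u w) = w := by funext i; fin_cases i; rfl

theorem glu_parts (v : Coord 4) : glu (f6 v) (p2 v) = v := by funext i; fin_cases i <;> rfl

theorem f6_add (v w : Coord 4) : f6 (v + w) = f6 v + f6 w := by funext i; fin_cases i <;> rfl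

theorem p2_add (v w : Coord 4) : p2 (v + w) = p2 v + p2 w := by funext i; fin_cases i; rfl

theorem glu_add (a c : Coord 3) (b d : Coord 1) : glu (a + c) (b + d) = glu a b + glu c d := by
  funext i; fin_cases i <;> rfl

theorem f6_smul (t : ZMod 2) (v : Coord 4) : f6 (t • v) = t • f6 v := by funext i; fin_cases i <;> rfl

theorem p2_smul (t : ZMod 2) (v : Coord 4) : p2 (t • v) = t • p2 v := by funext i; fin_cases i; rfl

theorem glu_smul (t : ZMod 2) (a : Coord 3) (b : Coord 1) : glu (t • a) (t • b) = t • glu a b := by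
  funext i; fin_cases i <;> rfl

theorem glu_zero : glu 0 0 = 0 := by funext i; fin_cases i <;> rfl

theorem em_vals : em 0 = 0 ∧ em 1 = 0 ∧ em 2 = 1 := by decide

theorem cocycle_split (v w : Coord 4) :
    cocycle e8 v w = cocycle em (f6 v) (f6 w) + cocycle e2 (p2 v) (p2 w) := by
  obtain ⟨h0, h1, h2⟩ := em_vals
  simp [cocycle, planeForm, f6, p2, Fin.sum_univ_four, Fin.sum_univ_three, h0, h1, h2]
  ring

theorem sq_split (v : Coord 4) : sqForm e8 v = sqForm em (f6 v) + sqForm e2 (p2 v) := cocycle_split v v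

theorem mem_isoGrp {n : ℕ} {e : Fin n → ZMod 2} {φ : Coord n ≃ₗ[ZMod 2] Coord n} (h : φ ∈ isoGrp e)
    (v : Coord n) : sqForm e (φ v) = sqForm e v := h v

/-- Extending an isometry of the six dimensional part. -/
def ext6 : (Coord 3 ≃ₗ[ZMod 2] Coord 3) →* (Coord 4 ≃ₗ[ZMod 2] Coord 4) where
  toFun φ :=
    { toFun := fun v => glu (φ (f6 v)) (p2 v)
      invFun := fun v => glu (φ.symm (f6 v)) (p2 v)
      map_add' := fun v w => by rw [f6_add, p2_add, map_add, glu_add]
      map_smul' := fun t v => by rw [f6_smul, p2_smul, map_smul, glu_smul]; rfl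
      left_inv := fun v => by simp [f6_glu, p2_glu, glu_parts]
      right_inv := fun v => by simp [f6_glu, p2_glu, glu_parts] }
  map_one' := by
    refine LinearEquiv.ext fun v => ?_
    show glu (f6 v) (p2 v) = v
    exact glu_parts v
  map_mul' φ ψ := by
    refine LinearEquiv.ext fun v => ?_
    show glu (φ (ψ (f6 v))) (p2 v) = glu (φ (f6 (glu (ψ (f6 v)) (p2 v)))) (p2 (glu (ψ (f6 v)) (p2 v)))
    rw [f6_glu, p2_glu]

/-- Extending an isometry of the plane. -/
def ext2 : (Coord 1 ≃ₗ[ZMod 2] Coord 1) →* (Coord 4 ≃ₗ[ZMod 2] Coord 4) where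
  toFun φ :=
    { toFun := fun v => glu (f6 v) (φ (p2 v))
      invFun := fun v => glu (f6 v) (φ.symm (p2 v))
      map_add' := fun v w => by rw [f6_add, p2_add, map_add, glu_add]
      map_smul' := fun t v => by rw [f6_smul, p2_smul, map_smul, glu_smul]; rfl
      left_inv := fun v => by simp [f6_glu, p2_glu, glu_parts]
      right_inv := fun v => by simp [f6_glu, p2_glu, glu_parts] }
  map_one' := by
    refine LinearEquiv.ext fun v => ?_
    show glu (f6 v) (p2 v) = v
    exact glu_parts v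
  map_mul' φ ψ := by
    refine LinearEquiv.ext fun v => ?_
    show glu (f6 v) (φ (ψ (p2 v))) = glu (f6 (glu (f6 v) (ψ (p2 v)))) (φ (p2 (glu (f6 v) (ψ (p2 v)))))
    rw [f6_glu, p2_glu]

/-- Isometries of the six dimensional part. -/
def J6 : isoGrp em →* isoGrp e8 :=
  (ext6.comp (isoGrp em).subtype).codRestrict (isoGrp e8) fun φ v => by
    show sqForm e8 (glu (φ.1 (f6 v)) (p2 v)) = sqForm e8 v
    rw [sq_split, sq_split v, f6_glu, p2_glu, mem_isoGrp φ.2]

/-- Isometries of the plane. -/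
def J2 : isoGrp e2 →* isoGrp e8 :=
  (ext2.comp (isoGrp e2).subtype).codRestrict (isoGrp e8) fun φ v => by
    show sqForm e8 (glu (f6 v) (φ.1 (p2 v))) = sqForm e8 v
    rw [sq_split, sq_split v, f6_glu, p2_glu, mem_isoGrp φ.2]

theorem J6_apply (φ : isoGrp em) (v : Coord 4) : (J6 φ).1 v = glu (φ.1 (f6 v)) (p2 v) := rfl

theorem J2_apply (φ : isoGrp e2) (v : Coord 4) : (J2 φ).1 v = glu (f6 v) (φ.1 (p2 v)) := rfl

theorem J2_injective : Function.Injective J2 := fun φ ψ h => Subtype.ext (LinearEquiv.ext fun u => by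
  have h1 := DFunLike.congr_fun (congrArg Subtype.val h) (glu 0 u)
  simpa [J2_apply, p2_glu, f6_glu] using congrArg p2 h1)

theorem J_comm (a : isoGrp em) (b : isoGrp e2) : J6 a * J2 b = J2 b * J6 a :=
  Subtype.ext (LinearEquiv.ext fun v => by
    show (J6 a).1 ((J2 b).1 v) = (J2 b).1 ((J6 a).1 v)
    simp [J6_apply, J2_apply, f6_glu, p2_glu])

/-- An isometry of order three of the plane. -/
def rot : isoGrp e2 :=
  ⟨{ toFun := fun w => ![((w 0).2, (w 0).1 + (w 0).2)]
     invFun := fun w => ![((w 0).1 + (w 0).2, (w 0).1)]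
     map_add' := by decide +kernel
     map_smul' := by decide +kernel
     left_inv := by intro w; revert w; decide +kernel
     right_inv := by intro w; revert w; decide +kernel }, by
    show ∀ w : Coord 1, sqForm e2 ![((w 0).2, (w 0).1 + (w 0).2)] = sqForm e2 w
    decide +kernel⟩

theorem rot_pow : rot ^ 3 = 1 := by
  refine Subtype.ext (LinearEquiv.ext fun w => ?_)
  show rot.1 (rot.1 (rot.1 w)) = w
  revert w
  decide +kernel

theorem rot_fix : ∀ w, rot.1 w = w → w = 0 := by decide +kernel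

theorem rot_sq_fix : ∀ w, rot.1 (rot.1 w) = w → w = 0 := by decide +kernel

theorem rot_sq_sub : ∀ w, ∃ x, w = rot.1 (rot.1 x) + x := by decide +kernel

theorem unit2_ne : (![(1, 0)] : Coord 1) ≠ 0 := by decide

theorem rot_ne : rot ≠ 1 := fun h => unit2_ne (rot_fix _ (by rw [h]; rfl))

theorem coord_one_cases : ∀ w : Coord 1, w = 0 ∨ w = ![(1, 0)] ∨ w = ![(0, 1)] ∨ w = ![(1, 0)] + ![(0, 1)] := by
  decide +kernel

/-- What commutes with the rotation is a power of it. -/
theorem rot_centraliser (β : isoGrp e2) (h : ∀ w, β.1 (rot.1 (rot.1 w)) = rot.1 (rot.1 (β.1 w))) :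
    ∃ k, k < 3 ∧ β = rot ^ k := by
  have key : ∀ a b : Coord 1, rot.1 (rot.1 a) = a + b → a ≠ 0 →
      ∃ k : Fin 3, (rot ^ (k : ℕ)).1 ![(1, 0)] = a ∧ (rot ^ (k : ℕ)).1 ![(0, 1)] = b := by decide +kernel
  have hrr : rot.1 (rot.1 ![(1, 0)]) = (![(1, 0)] : Coord 1) + ![(0, 1)] := by decide +kernel
  have ha : β.1 ![(1, 0)] ≠ 0 := fun e => unit2_ne (β.1.injective (e.trans (map_zero β.1).symm))
  obtain ⟨k, hk1, hk2⟩ := key (β.1 ![(1, 0)]) (β.1 ![(0, 1)]) (by rw [← h, hrr, map_add]) ha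
  refine ⟨k, k.2, Subtype.ext (LinearEquiv.ext fun w => ?_)⟩
  rcases coord_one_cases w with rfl | rfl | rfl | rfl
  · rw [map_zero, map_zero]
  · exact hk1.symm
  · exact hk2.symm
  · rw [map_add, map_add, hk1, hk2]

/-- Restriction of an isometry commuting with the rotation. -/
theorem split_of_comm (φ : isoGrp e8) (h : φ * J2 (rot * rot) = J2 (rot * rot) * φ) :
    ∃ (α : isoGrp em) (k : ℕ), φ = J6 α * J2 (rot ^ k) := by
  have hc : ∀ v, φ.1 ((J2 (rot * rot)).1 v) = (J2 (rot * rot)).1 (φ.1 v) := fun v =>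
    DFunLike.congr_fun (congrArg Subtype.val h) v
  have hJ : ∀ v, (J2 (rot * rot)).1 v = glu (f6 v) (rot.1 (rot.1 (p2 v))) := fun v => rfl
  have h6 : ∀ u, p2 (φ.1 (glu u 0)) = 0 := fun u => by
    have h1 := hc (glu u 0)
    rw [hJ, f6_glu, p2_glu, map_zero, map_zero, hJ] at h1
    have h2 := congrArg p2 h1
    rw [p2_glu] at h2
    exact rot_sq_fix _ h2.symm
  have h2 : ∀ w, f6 (φ.1 (glu 0 w)) = 0 := fun w => by
    obtain ⟨x, rfl⟩ := rot_sq_sub w
    have e : glu 0 (rot.1 (rot.1 x) + x) = (J2 (rot * rot)).1 (glu 0 x) + glu 0 x := by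
      rw [hJ, f6_glu, p2_glu, ← glu_add, add_zero]
    rw [e, map_add, hc, f6_add, hJ, f6_glu]
    exact neg_eq_two _
  have hg6 : ∀ u, glu (f6 (φ.1 (glu u 0))) 0 = φ.1 (glu u 0) := fun u => by
    conv_rhs => rw [← glu_parts (φ.1 (glu u 0)), h6]
  have hg2 : ∀ w, glu 0 (p2 (φ.1 (glu 0 w))) = φ.1 (glu 0 w) := fun w => by
    conv_rhs => rw [← glu_parts (φ.1 (glu 0 w)), h2]
  let a : Coord 3 →ₗ[ZMod 2] Coord 3 :=
    { toFun := fun u => f6 (φ.1 (glu u 0))
      map_add' := fun u u' => by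
        show f6 (φ.1 (glu (u + u') 0)) = _
        rw [← f6_add, ← map_add, ← glu_add, add_zero]
      map_smul' := fun t u => by
        show f6 (φ.1 (glu (t • u) 0)) = t • f6 (φ.1 (glu u 0))
        rw [← f6_smul, ← map_smul, ← glu_smul, smul_zero] }
  have ainj : Function.Injective a := fun u u' e => by
    have h1 : φ.1 (glu u 0) = φ.1 (glu u' 0) := by rw [← hg6 u, ← hg6 u']; exact congrArg (glu · 0) e
    simpa [f6_glu] using congrArg f6 (φ.1.injective h1)
  let b : Coord 1 →ₗ[ZMod 2] Coord 1 :=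
    { toFun := fun w => p2 (φ.1 (glu 0 w))
      map_add' := fun u u' => by
        show p2 (φ.1 (glu 0 (u + u'))) = _
        rw [← p2_add, ← map_add, ← glu_add, add_zero]
      map_smul' := fun t u => by
        show p2 (φ.1 (glu 0 (t • u))) = t • p2 (φ.1 (glu 0 u))
        rw [← p2_smul, ← map_smul, ← glu_smul, smul_zero] }
  have binj : Function.Injective b := fun u u' e => by
    have h1 : φ.1 (glu 0 u) = φ.1 (glu 0 u') := by rw [← hg2 u, ← hg2 u']; exact congrArg (glu 0) e
    simpa [p2_glu] using congrArg p2 (φ.1.injective h1)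
  have sq6 : ∀ u, sqForm em u = sqForm e8 (glu u 0) := fun u => by
    rw [sq_split, f6_glu, p2_glu, show sqForm e2 0 = 0 from cocycle_zero_left _ _, add_zero]
  have sq2 : ∀ w, sqForm e2 w = sqForm e8 (glu 0 w) := fun w => by
    rw [sq_split, f6_glu, p2_glu, show sqForm em 0 = 0 from cocycle_zero_left _ _, zero_add]
  let α : isoGrp em := ⟨LinearEquiv.ofInjectiveEndo a ainj, fun u => by
    show sqForm em (f6 (φ.1 (glu u 0))) = _
    rw [sq6, hg6, mem_isoGrp φ.2, ← sq6]⟩
  let β : isoGrp e2 := ⟨LinearEquiv.ofInjectiveEndo b binj, fun w => by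
    show sqForm e2 (p2 (φ.1 (glu 0 w))) = _
    rw [sq2, hg2, mem_isoGrp φ.2, ← sq2]⟩
  obtain ⟨k, -, hk⟩ := rot_centraliser β (fun w => by
    show p2 (φ.1 (glu 0 (rot.1 (rot.1 w)))) = rot.1 (rot.1 (p2 (φ.1 (glu 0 w))))
    have h1 := congrArg p2 (hc (glu 0 w))
    rwa [hJ, f6_glu, p2_glu, hJ, p2_glu] at h1)
  refine ⟨α, k, Subtype.ext (LinearEquiv.ext fun v => ?_)⟩
  rw [← hk]
  show φ.1 v = (J6 α).1 ((J2 β).1 v)
  rw [J2_apply, J6_apply, f6_glu, p2_glu]
  show φ.1 v = glu (f6 (φ.1 (glu (f6 v) 0))) (p2 (φ.1 (glu 0 (p2 v))))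
  conv_lhs => rw [← glu_parts v, show glu (f6 v) (p2 v) = glu (f6 v) 0 + glu 0 (p2 v) by
    rw [← glu_add, add_zero, zero_add], map_add, ← hg6, ← hg2, ← glu_add, add_zero, zero_add]

/-- The reflection in the six dimensional part which is a swap of a hyperbolic plane. -/
def swap6 : isoGrp em :=
  ⟨{ toFun := fun w => ![((w 0).2, (w 0).1), w 1, w 2]
     invFun := fun w => ![((w 0).2, (w 0).1), w 1, w 2]
     map_add' := fun a b => by funext i; fin_cases i <;> rfl
     map_smul' := fun c a => by funext i; fin_cases i <;> rfl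
     left_inv := fun w => by funext i; fin_cases i <;> rfl
     right_inv := fun w => by funext i; fin_cases i <;> rfl }, by
    show ∀ w : Coord 3, sqForm em ![((w 0).2, (w 0).1), w 1, w 2] = sqForm em w
    decide +kernel⟩

theorem J6_swap6 : J6 swap6 = CfsgLib.ConwayFive.j1 CfsgLib.ConwayFive.swap4 :=
  Subtype.ext (LinearEquiv.ext fun v => by
    show glu ![((v 0).2, (v 0).1), v 2, v 1] ![v 3] = ![((v 0).2, (v 0).1), v 1, v 2, v 3]
    funext i; fin_cases i <;> rfl)

/-- The isometries of index two of the six dimensional part. -/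
theorem index_two_iso (R : Subgroup (isoGrp em)) (hR : R.index = 2) :
    Nonempty (↥R ≃* Cfsg.Omega (ZMod 2) (Cfsg.quadFormMinus 2 (ZMod 2) 1 1)) := by
  let Φ : isoGrp em ≃* Cfsg.isometryGroup (ZMod 2) (Cfsg.quadFormMinus 2 (ZMod 2) 1 1) :=
    isoGrpEquiv em _ SuzType.toFun6 SuzType.toFun6_form
  have hmap : (commutator (isoGrp em)).map Φ.toMonoidHom =
      Cfsg.Omega (ZMod 2) (Cfsg.quadFormMinus 2 (ZMod 2) 1 1) := by
    rw [commutator_def, Subgroup.map_commutator, Subgroup.map_top_of_surjective Φ.toMonoidHom Φ.surjective]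
    rfl
  let ι : ↥(commutator (isoGrp em)) ≃* Cfsg.Omega (ZMod 2) (Cfsg.quadFormMinus 2 (ZMod 2) 1 1) :=
    (Subgroup.equivMapOfInjective _ Φ.toMonoidHom Φ.injective).trans (MulEquiv.subgroupCongr hmap)
  have hle : commutator (isoGrp em) ≤ R := by
    rw [commutator_def, Subgroup.commutator_le]
    intro a _ b _
    rw [commutatorElement_def, Subgroup.mul_mem_iff_of_index_two hR, Subgroup.mul_mem_iff_of_index_two hR,
      Subgroup.mul_mem_iff_of_index_two hR, inv_mem_iff, inv_mem_iff]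
    tauto
  have hcard : Nat.card R = 25920 := by
    have h := R.card_mul_index
    rw [hR, SuzType.card_iso] at h
    exact Nat.eq_of_mul_eq_mul_right two_pos (h.trans (by norm_num))
  have heq : commutator (isoGrp em) = R := Subgroup.eq_of_le_of_card_ge hle (by
    rw [hcard, Nat.card_congr ι.toEquiv, SuzType.card_omega])
  exact ⟨(MulEquiv.subgroupCongr heq.symm).trans ι⟩

end CfsgLib.ConwayThree
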